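import Groth.Agent.ConsPairLib.Props
import Groth.Agent.ConsPairLib.Loci
import Groth.Agent.FlatDescends.Basic
import Groth.Agent.LimLib.Proper
import Groth.Agent.ProjMor.QProj

/-!
# A proper flat pair over a Noetherian base
-/

set_option autoImplicit false
set_option backward.isDefEq.respectTransparency false
set_option backward.isDefEq.respectTransparency.types false

universe u

open CategoryTheory Limits AlgebraicGeometry TopologicalSpace

noncomputable section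

namespace Groth.Agent.GrpdLib.Cover4090

/-- A proper flat pair, quasi-finite over the product, on a quasi-projective scheme. -/
structure PairModel {S U R : Scheme.{u}} (pU : U ⟶ S) (u v : R ⟶ U) where
  T : Scheme.{u}
  g : S ⟶ T
  U0 : Scheme.{u}
  R0 : Scheme.{u}
  pU0 : U0 ⟶ T
  u0 : R0 ⟶ U0
  v0 : R0 ⟶ U0
  πU : U ⟶ U0
  πR : R ⟶ R0
  aff : IsAffine T
  noeth : IsNoetherian T
  lft : LocallyOfFiniteType pU0
  qc : QuasiCompact pU0
  qproj : RelProj.IsQuasiProjective pU0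
  comm : u0 ≫ pU0 = v0 ≫ pU0
  proper : IsProper v0
  flat : Flat v0
  surj : Surjective v0
  lqf : LocallyQuasiFinite (pullback.lift v0 u0 comm.symm)
  sqU : IsPullback πU pU pU0 g
  sqV : IsPullback πR v v0 πU
  compat : πR ≫ u0 = u ≫ πU

section stages

variable {I : Type u} [SmallCategory I] {D : I ⥤ Scheme.{u}} {c : Cone D}

/-- The data at a stage. -/
structure Stage (i : I) {U R : Scheme.{u}} (pU : U ⟶ c.pt) (pR : R ⟶ c.pt) where
  U0 : Scheme.{u}
  R0 : Scheme.{u}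
  pU0 : U0 ⟶ D.obj i
  pR0 : R0 ⟶ D.obj i
  qU : U ⟶ U0
  qR : R ⟶ R0
  lfpU : LocallyOfFinitePresentation pU0
  qcU : QuasiCompact pU0
  qsU : QuasiSeparated pU0
  lfpR : LocallyOfFinitePresentation pR0
  qcR : QuasiCompact pR0
  qsR : QuasiSeparated pR0
  sU : IsPullback qU pU pU0 (c.π.app i)
  sR : IsPullback qR pR pR0 (c.π.app i)

namespace Stage

variable {U R : Scheme.{u}} {pU : U ⟶ c.pt} {pR : R ⟶ c.pt} {i k : I} (M : Stage i pU pR)

/-- Moving to a finer stage. -/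
def bc (φ : k ⟶ i) : Stage k pU pR where
  U0 := pullback M.pU0 (D.map φ)
  R0 := pullback M.pR0 (D.map φ)
  pU0 := pullback.snd _ _
  pR0 := pullback.snd _ _
  qU := pullback.lift M.qU (pU ≫ c.π.app k) (by simp [M.sU.w])
  qR := pullback.lift M.qR (pR ≫ c.π.app k) (by simp [M.sR.w])
  lfpU := MorphismProperty.pullback_snd _ _ M.lfpU
  qcU := MorphismProperty.pullback_snd _ _ M.qcU
  qsU := MorphismProperty.pullback_snd _ _ M.qsU
  lfpR := MorphismProperty.pullback_snd _ _ M.lfpR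
  qcR := MorphismProperty.pullback_snd _ _ M.qcR
  qsR := MorphismProperty.pullback_snd _ _ M.qsR
  sU := IsPullback.of_right (by simpa using M.sU) (by simp) (IsPullback.of_hasPullback _ _)
  sR := IsPullback.of_right (by simpa using M.sR) (by simp) (IsPullback.of_hasPullback _ _)

/-- A morphism at a stage lifting a morphism at the limit. -/
structure Lift (h : R ⟶ U) where
  hom : M.R0 ⟶ M.U0
  w : hom ≫ M.pU0 = M.pR0
  fac : M.qR ≫ hom = h ≫ M.qU

variable {M} {h : R ⟶ U}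

/-- A lift at a finer stage. -/
def Lift.bc (L : M.Lift h) (hh : h ≫ pU = pR) (φ : k ⟶ i) : (M.bc φ).Lift h where
  hom := pullback.lift (pullback.fst _ _ ≫ L.hom) (pullback.snd _ _)
    (by rw [Category.assoc, L.w, pullback.condition])
  w := pullback.lift_snd _ _ _
  fac := by
    apply pullback.hom_ext <;> simp [Stage.bc, L.fac, reassoc_of% hh]

lemma Lift.isPullback (L : M.Lift h) (hh : h ≫ pU = pR) : IsPullback M.qR h L.hom M.qU :=
  IsPullback.of_bot (by rw [hh, L.w]; exact M.sR) L.fac M.sU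

lemma Lift.isPullback_bc (L : M.Lift h) (hh : h ≫ pU = pR) (φ : k ⟶ i) :
    IsPullback (pullback.fst M.pR0 (D.map φ)) (L.bc hh φ).hom L.hom (pullback.fst M.pU0 (D.map φ)) :=
  IsPullback.of_bot
    (by rw [show (L.bc hh φ).hom ≫ pullback.snd M.pU0 (D.map φ) = pullback.snd M.pR0 (D.map φ) from
        pullback.lift_snd _ _ _, L.w]
        exact IsPullback.of_hasPullback _ _)
    (pullback.lift_fst _ _ _).symm (IsPullback.of_hasPullback _ _)

end Stage

variable [IsCofiltered I] (hc : IsLimit c) [∀ i, IsAffine (D.obj i)]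
include hc

lemma exists_stage {U R : Scheme.{u}} (pU : U ⟶ c.pt) (pR : R ⟶ c.pt)
    [LocallyOfFinitePresentation pU] [CompactSpace U] [QuasiSeparatedSpace U]
    [LocallyOfFinitePresentation pR] [CompactSpace R] [QuasiSeparatedSpace R] :
    ∃ i, Nonempty (Stage i pU pR) := by
  obtain ⟨k, X₀, Y₀, u₀, v₀, qX, qY, a₁, a₂, b₁, c₁, b₂, c₂, s₁, s₂⟩ :=
    ConsPairLib.exists_common_model hc pU pR
  exact ⟨k, ⟨{
    U0 := X₀
    R0 := Y₀
    pU0 := u₀
    pR0 := v₀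
    qU := qX
    qR := qY
    lfpU := a₁
    qcU := quasiCompact_of_compactSpace u₀
    qsU := inferInstance
    lfpR := a₂
    qcR := quasiCompact_of_compactSpace v₀
    qsR := inferInstance
    sU := s₁
    sR := s₂ }⟩⟩

lemma exists_lift {U R : Scheme.{u}} {pU : U ⟶ c.pt} {pR : R ⟶ c.pt} {i : I}
    (M : Stage i pU pR) (h : R ⟶ U) (hh : h ≫ pU = pR) :
    ∃ (k : I) (φ : k ⟶ i), Nonempty ((M.bc φ).Lift h) := by
  have := M.lfpU; have := M.qcR; have := M.qsR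
  have : ∀ (a b : I) (f : a ⟶ b), IsAffineHom (D.map f) := fun a b f => inferInstance
  have : CompactSpace M.R0 := QuasiCompact.compactSpace_of_compactSpace M.pR0
  have : QuasiSeparatedSpace M.R0 := quasiSeparatedSpace_of_quasiSeparated M.pR0
  let t : LimLib.bcDiag D i M.pR0 ⟶ (Functor.const (Over i)).obj (D.obj i) :=
    { app := fun j => pullback.fst M.pR0 (D.map j.hom) ≫ M.pR0
      naturality := fun j k a => by simp }
  obtain ⟨j, s, hs₁, hs₂⟩ := Scheme.exists_π_app_comp_eq_of_locallyOfFinitePresentation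
    (LimLib.bcDiag D i M.pR0) t M.pU0 _ (LimLib.isLimitBcCone hc M.sR) (h ≫ M.qU) (by
      ext k
      simp only [NatTrans.comp_app, LimLib.bcCone_π_app, Functor.const_map_app, Category.assoc, t]
      rw [pullback.lift_fst_assoc, M.sR.w, M.sU.w, reassoc_of% hh])
  change s ≫ M.pU0 = pullback.fst M.pR0 (D.map j.hom) ≫ M.pR0 at hs₂
  refine ⟨j.left, j.hom, ⟨{
    hom := pullback.lift s (pullback.snd _ _) (by rw [hs₂, pullback.condition])
    w := pullback.lift_snd _ _ _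
    fac := ?_ }⟩⟩
  apply pullback.hom_ext
  · simp only [Stage.bc, Category.assoc, pullback.lift_fst]
    exact hs₁
  · simp [Stage.bc, reassoc_of% hh]

/-- A property of the limit holds at all fine enough stages. -/
lemma exists_property {P : MorphismProperty Scheme.{u}} [P.IsStableUnderBaseChange]
    (h : LimLib.Descends P @LocallyOfFinitePresentation) {i : I} {X₀ Y₀ X Y : Scheme.{u}}
    (f₀ : X₀ ⟶ Y₀) (g₀ : Y₀ ⟶ D.obj i) [LocallyOfFinitePresentation g₀] [QuasiCompact g₀]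
    [QuasiSeparated g₀] [LocallyOfFinitePresentation (f₀ ≫ g₀)] [QuasiCompact (f₀ ≫ g₀)]
    [QuasiSeparated (f₀ ≫ g₀)] {f : X ⟶ Y} {g : Y ⟶ c.pt} {qY : Y ⟶ Y₀} {qX : X ⟶ X₀}
    (hY : IsPullback qY g g₀ (c.π.app i)) (hX : IsPullback qX f f₀ qY) (hP : P f) :
    ∃ (k : I) (φ : k ⟶ i), ∀ {k' : I} (ψ : k' ⟶ k) {Xk Yk : Scheme.{u}} (fk : Xk ⟶ Yk)
      (gk : Yk ⟶ D.obj k') (pY : Yk ⟶ Y₀) (pX : Xk ⟶ X₀),
      IsPullback pY gk g₀ (D.map (ψ ≫ φ)) → IsPullback pX fk f₀ pY → P fk := by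
  have : ∀ (a b : I) (f : a ⟶ b), IsAffineHom (D.map f) := fun a b f => inferInstance
  obtain ⟨k, φ, Xi, Yi, fi, gi, pYi, pXi, hYi, hXi, hfi⟩ :=
    EGA43Lim.exists_stage_fp hc hY hX h (fun _ ha => ha) hP
  refine ⟨k, φ, fun {k'} ψ {Xk Yk} fk gk pY pX hYk hXk => ?_⟩
  refine LimLib.property_of_factor hXi hXk (hYi.lift pY (gk ≫ D.map ψ) ?_) (hYi.lift_fst _ _ _) hfi
  rw [hYk.w, D.map_comp, Category.assoc]

end stages

section

variable {I : Type u} [SmallCategory I] [IsCofiltered I]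

lemma exists_and {i : I} {A B : ∀ k : I, (k ⟶ i) → Prop}
    (hA : ∃ (k : I) (φ : k ⟶ i), ∀ {k' : I} (ψ : k' ⟶ k), A k' (ψ ≫ φ))
    (hB : ∃ (k : I) (φ : k ⟶ i), ∀ {k' : I} (ψ : k' ⟶ k), B k' (ψ ≫ φ)) :
    ∃ (k : I) (φ : k ⟶ i), ∀ {k' : I} (ψ : k' ⟶ k), A k' (ψ ≫ φ) ∧ B k' (ψ ≫ φ) := by
  obtain ⟨k₁, φ₁, h₁⟩ := hA
  obtain ⟨k₂, φ₂, h₂⟩ := hB
  obtain ⟨k, a, b, hab⟩ := IsCofiltered.cospan φ₁ φ₂
  refine ⟨k, a ≫ φ₁, fun {k'} ψ => ⟨?_, ?_⟩⟩
  · rw [← Category.assoc]; exact h₁ _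
  · rw [hab, ← Category.assoc]; exact h₂ _

end

/-- The product of a square with itself. -/
lemma isPullback_prod {T S U0 U : Scheme.{u}} {pU0 : U0 ⟶ T} {pU : U ⟶ S} {g : S ⟶ T} {qU : U ⟶ U0}
    (h : IsPullback qU pU pU0 g) :
    IsPullback (pullback.map pU pU pU0 pU0 qU qU g h.w.symm h.w.symm) (pullback.fst pU pU ≫ pU)
      (pullback.fst pU0 pU0 ≫ pU0) g := by
  have s1 : IsPullback (pullback.snd pU pU ≫ qU) (pullback.fst pU pU) pU0 (pU ≫ g) :=
    (IsPullback.of_hasPullback pU pU).flip.paste_horiz h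
  rw [← h.w] at s1
  refine IsPullback.paste_vert (h₂₁ := qU) ?_ h
  refine IsPullback.of_right (h₁₂ := pullback.snd pU0 pU0) (h₂₂ := pU0) ?_ (pullback.lift_fst _ _ _)
    (IsPullback.of_hasPullback pU0 pU0).flip
  rw [pullback.lift_snd]
  exact s1

/-- Projective space commutes with base change. -/
lemma exists_isPullback_projSpace (n : ℕ) {S T : Scheme.{u}} (g : S ⟶ T) :
    ∃ q, IsPullback q (CohB1.ProjSpaceOver.toBase n S) (CohB1.ProjSpaceOver.toBase n T) g := by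
  refine ⟨(ProjMor.isPullback_fstP n (S := T)).lift (ProjMor.fstP n S)
    (CohB1.ProjSpaceOver.toBase n S ≫ g) ?_, ?_⟩
  · rw [Category.assoc, (ProjMor.isPullback_fstP n (S := S)).w]
    congr 1
    exact specULiftZIsTerminal.hom_ext _ _
  refine IsPullback.of_right ?_ ((ProjMor.isPullback_fstP n (S := T)).lift_snd _ _ _)
    (ProjMor.isPullback_fstP n)
  rw [(ProjMor.isPullback_fstP n (S := T)).lift_fst,
    show g ≫ specULiftZIsTerminal.from T = specULiftZIsTerminal.from S from specULiftZIsTerminal.hom_ext _ _]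
  exact ProjMor.isPullback_fstP n

theorem descends_isProper' : LimLib.Descends.{u} @IsProper @LocallyOfFinitePresentation :=
  fun {I} _ _ D c hc hD hqc hqs i X₀ f₀ h₁ h₂ hQ =>
    LimLib.descends_isProper D c hc hD hqc hqs i X₀ f₀ h₁ h₂
      (by have : LocallyOfFinitePresentation f₀ := hQ; exact inferInstanceAs (LocallyOfFiniteType f₀))

theorem descends_lqf' : LimLib.Descends.{u} @LocallyQuasiFinite @LocallyOfFinitePresentation :=
  fun {I} _ _ D c hc hD hqc hqs i X₀ f₀ h₁ h₂ hQ =>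
    EGA43Lim.descends_locallyQuasiFinite D c hc hD hqc hqs i X₀ f₀ h₁ h₂
      (by have : LocallyOfFinitePresentation f₀ := hQ; exact inferInstanceAs (LocallyOfFiniteType f₀))

theorem descends_isImmersion' : LimLib.Descends.{u} @IsImmersion @LocallyOfFinitePresentation :=
  fun {I} _ _ D c hc hD hqc hqs i X₀ f₀ h₁ h₂ hQ =>
    LimLib.descends_isImmersion D c hc hD hqc hqs i X₀ f₀ h₁ h₂
      (by have : LocallyOfFinitePresentation f₀ := hQ; exact inferInstanceAs (LocallyOfFiniteType f₀))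

/-- A proper flat pair on a quasi-projective scheme over an affine base comes from a Noetherian one. -/
theorem exists_pairModel {S U R : Scheme.{u}} [IsAffine S] (pU : U ⟶ S)
    [LocallyOfFinitePresentation pU] [QuasiCompact pU] [QuasiSeparated pU] (n : ℕ)
    (e : U ⟶ CohB1.ProjSpaceOver n S) [IsImmersion e]
    (he : e ≫ CohB1.ProjSpaceOver.toBase n S = pU) (u v : R ⟶ U) (huv : u ≫ pU = v ≫ pU)
    [IsProper v] [Flat v] [Surjective v] [LocallyOfFinitePresentation v]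
    [LocallyQuasiFinite (pullback.lift v u huv.symm)] : Nonempty (PairModel pU u v) := by
  obtain ⟨I, _, _, D, c₀, ε, ⟨hc₀⟩, hA, hN⟩ := ConsPairLib.exists_noetherian_limit Γ(S, ⊤)
  have := hA; have := hN
  have : ∀ (a b : I) (f : a ⟶ b), IsAffineHom (D.map f) := fun a b f => inferInstance
  let ε' : S ⟶ c₀.pt := (S.isoSpec ≪≫ ε.symm).hom
  let c : Cone D := c₀.extend ε'
  have hc : IsLimit c := IsLimit.extendIso ε' hc₀
  have : CompactSpace U := QuasiCompact.compactSpace_of_compactSpace pU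
  have : QuasiSeparatedSpace U := quasiSeparatedSpace_of_quasiSeparated pU
  have : CompactSpace R := QuasiCompact.compactSpace_of_compactSpace v
  have : QuasiSeparatedSpace R := quasiSeparatedSpace_of_quasiSeparated v
  change U ⟶ c.pt at pU
  obtain ⟨i₀, ⟨M₀⟩⟩ := exists_stage hc pU (v ≫ pU)
  obtain ⟨i₁, φ₁, ⟨Lv₁⟩⟩ := exists_lift hc M₀ v rfl
  obtain ⟨i₂, φ₂, ⟨Lu₂⟩⟩ := exists_lift hc (M₀.bc φ₁) u huv
  let M₂ := (M₀.bc φ₁).bc φ₂
  let Lv₂ : M₂.Lift v := Lv₁.bc rfl φ₂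
  obtain ⟨qP₂, sP₂⟩ := exists_isPullback_projSpace n (c.π.app i₂)
  have := ProjProper.Basic.isProper_toBase n (D.obj i₂)
  have := ProjProper.Basic.isProper_toBase n c.pt
  let N₂ : Stage i₂ (CohB1.ProjSpaceOver.toBase n c.pt) pU :=
    { U0 := CohB1.ProjSpaceOver n (D.obj i₂)
      R0 := M₂.U0
      pU0 := CohB1.ProjSpaceOver.toBase n (D.obj i₂)
      pR0 := M₂.pU0
      qU := qP₂
      qR := M₂.qU
      lfpU := inferInstance
      qcU := inferInstance
      qsU := inferInstance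
      lfpR := M₂.lfpU
      qcR := M₂.qcU
      qsR := M₂.qsU
      sU := sP₂
      sR := M₂.sU }
  obtain ⟨i, φ₃, ⟨Le⟩⟩ := exists_lift hc N₂ e he
  let M := M₂.bc φ₃
  let N := N₂.bc φ₃
  let Lv : M.Lift v := Lv₂.bc rfl φ₃
  let Lu : M.Lift u := Lu₂.bc huv φ₃
  have := M.lfpU; have := M.qcU; have := M.qsU
  have := M.lfpR; have := M.qcR; have := M.qsR
  have := N.lfpU; have := N.qcU; have := N.qsU
  have hwe : Le.hom ≫ N.pU0 = M.pU0 := Le.w
  have hwv : Lv.hom ≫ M.pU0 = M.pR0 := Lv.w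
  have : LocallyOfFinitePresentation (Lv.hom ≫ M.pU0) := by rw [hwv]; infer_instance
  have : QuasiCompact (Lv.hom ≫ M.pU0) := by rw [hwv]; infer_instance
  have : QuasiSeparated (Lv.hom ≫ M.pU0) := by rw [hwv]; infer_instance
  have : LocallyOfFinitePresentation (Le.hom ≫ N.pU0) := by rw [hwe]; infer_instance
  have : QuasiCompact (Le.hom ≫ N.pU0) := by rw [hwe]; infer_instance
  have : QuasiSeparated (Le.hom ≫ N.pU0) := by rw [hwe]; infer_instance
  let l₀ : M.R0 ⟶ pullback M.pU0 M.pU0 := pullback.lift Lv.hom Lu.hom (by rw [Lv.w, Lu.w])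
  let pP₀ : pullback M.pU0 M.pU0 ⟶ D.obj i := pullback.fst M.pU0 M.pU0 ≫ M.pU0
  have hwl : l₀ ≫ pP₀ = M.pR0 := by simp [l₀, pP₀, hwv]
  have : LocallyOfFinitePresentation (l₀ ≫ pP₀) := by rw [hwl]; infer_instance
  have : QuasiCompact (l₀ ≫ pP₀) := by rw [hwl]; infer_instance
  have : QuasiSeparated (l₀ ≫ pP₀) := by rw [hwl]; infer_instance
  have sP := isPullback_prod M.sU
  have sl : IsPullback M.qR (pullback.lift v u huv.symm) l₀
      (pullback.map pU pU M.pU0 M.pU0 M.qU M.qU (c.π.app i) M.sU.w.symm M.sU.w.symm) := by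
    refine IsPullback.of_bot ?_ ?_ sP
    · rw [pullback.lift_fst_assoc, hwl]; exact M.sR
    · apply pullback.hom_ext <;> simp [l₀, Lv.fac, Lu.fac]
  have hv₁ := exists_property hc descends_isProper' Lv.hom M.pU0 M.sU (Lv.isPullback rfl)
    (inferInstanceAs (IsProper v))
  have hv₂ := exists_property hc FlatDescends.descends_flat Lv.hom M.pU0 M.sU (Lv.isPullback rfl)
    (inferInstanceAs (Flat v))
  have hv₃ := exists_property hc EGA43Lim.descends_surjective Lv.hom M.pU0 M.sU (Lv.isPullback rfl)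
    (inferInstanceAs (Surjective v))
  have hlq := exists_property hc descends_lqf' l₀ pP₀ sP sl
    (inferInstanceAs (LocallyQuasiFinite (pullback.lift v u huv.symm)))
  have hei := exists_property hc descends_isImmersion' Le.hom N.pU0 N.sU (Le.isPullback he)
    (inferInstanceAs (IsImmersion e))
  obtain ⟨k, Φ, hall⟩ : ∃ (k : I) (Φ : k ⟶ i), IsProper (Lv.bc rfl Φ).hom ∧ Flat (Lv.bc rfl Φ).hom ∧
      Surjective (Lv.bc rfl Φ).hom ∧
      LocallyQuasiFinite (pullback.lift (Lv.bc rfl Φ).hom (Lu.bc huv Φ).hom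
        (by rw [(Lv.bc rfl Φ).w, (Lu.bc huv Φ).w])) ∧
      ∃ e' : (M.bc Φ).U0 ⟶ CohB1.ProjSpaceOver n (D.obj k), IsImmersion e' ∧
        e' ≫ CohB1.ProjSpaceOver.toBase n (D.obj k) = (M.bc Φ).pU0 := by
    obtain ⟨k₁, a₁, h₁⟩ := hv₁
    obtain ⟨k₂, a₂, h₂⟩ := hv₂
    obtain ⟨k₃, a₃, h₃⟩ := hv₃
    obtain ⟨k₄, a₄, h₄⟩ := hlq
    obtain ⟨k₅, a₅, h₅⟩ := hei
    have g₄ : ∀ {k' : I} (ψ : k' ⟶ k₄), LocallyQuasiFinite (pullback.lift (Lv.bc rfl (ψ ≫ a₄)).hom
        (Lu.bc huv (ψ ≫ a₄)).hom (by rw [(Lv.bc rfl (ψ ≫ a₄)).w, (Lu.bc huv (ψ ≫ a₄)).w])) := by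
      intro k' ψ
      have sU' : IsPullback (pullback.fst M.pU0 (D.map (ψ ≫ a₄))) (M.bc (ψ ≫ a₄)).pU0 M.pU0
          (D.map (ψ ≫ a₄)) := IsPullback.of_hasPullback _ _
      have sP' := isPullback_prod sU'
      refine h₄ ψ _ _ _ (pullback.fst M.pR0 (D.map (ψ ≫ a₄))) sP' (IsPullback.of_bot ?_ ?_ sP')
      · rw [pullback.lift_fst_assoc, hwl, (Lv.bc rfl (ψ ≫ a₄)).w]
        exact IsPullback.of_hasPullback _ _
      · apply pullback.hom_ext <;> simp [l₀, Stage.Lift.bc, Stage.bc]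
    have g₅ : ∀ {k' : I} (ψ : k' ⟶ k₅), ∃ e' : (M.bc (ψ ≫ a₅)).U0 ⟶ CohB1.ProjSpaceOver n (D.obj k'),
        IsImmersion e' ∧ e' ≫ CohB1.ProjSpaceOver.toBase n (D.obj k') = (M.bc (ψ ≫ a₅)).pU0 := by
      intro k' ψ
      obtain ⟨qP, sPk⟩ := exists_isPullback_projSpace n (D.map (ψ ≫ a₅ ≫ φ₃))
      let r : CohB1.ProjSpaceOver n (D.obj k') ⟶ N.U0 :=
        pullback.lift qP (CohB1.ProjSpaceOver.toBase n (D.obj k') ≫ D.map (ψ ≫ a₅))
          (by rw [Category.assoc, ← D.map_comp, Category.assoc]; exact sPk.w)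
      have sr : IsPullback r (CohB1.ProjSpaceOver.toBase n (D.obj k')) N.pU0 (D.map (ψ ≫ a₅)) := by
        refine IsPullback.of_right ?_ (pullback.lift_snd _ _ _) (IsPullback.of_hasPullback _ _)
        rw [pullback.lift_fst, ← D.map_comp, Category.assoc]
        exact sPk
      let e' : (M.bc (ψ ≫ a₅)).U0 ⟶ CohB1.ProjSpaceOver n (D.obj k') :=
        sr.lift (pullback.fst M.pU0 (D.map (ψ ≫ a₅)) ≫ Le.hom) (pullback.snd _ _)
          (by rw [Category.assoc, hwe, pullback.condition])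
      refine ⟨e', h₅ ψ e' _ r (pullback.fst M.pU0 _) sr (IsPullback.of_bot ?_ ?_ sr), sr.lift_snd _ _ _⟩
      · rw [sr.lift_snd, hwe]
        exact IsPullback.of_hasPullback _ _
      · exact (sr.lift_fst _ _ _).symm
    obtain ⟨k, ψ, hψ⟩ := exists_and (A := fun k' Φ => IsProper (Lv.bc rfl Φ).hom ∧ Flat (Lv.bc rfl Φ).hom ∧
        Surjective (Lv.bc rfl Φ).hom)
      (B := fun k' Φ => LocallyQuasiFinite (pullback.lift (Lv.bc rfl Φ).hom (Lu.bc huv Φ).hom
          (by rw [(Lv.bc rfl Φ).w, (Lu.bc huv Φ).w])) ∧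
        ∃ e' : (M.bc Φ).U0 ⟶ CohB1.ProjSpaceOver n (D.obj k'), IsImmersion e' ∧
          e' ≫ CohB1.ProjSpaceOver.toBase n (D.obj k') = (M.bc Φ).pU0)
      (exists_and (A := fun k' Φ => IsProper (Lv.bc rfl Φ).hom)
        (B := fun k' Φ => Flat (Lv.bc rfl Φ).hom ∧ Surjective (Lv.bc rfl Φ).hom) ⟨k₁, a₁, fun ψ => h₁ ψ _ _ _ _ (IsPullback.of_hasPullback _ _) (Lv.isPullback_bc rfl _)⟩
        (exists_and (A := fun k' Φ => Flat (Lv.bc rfl Φ).hom) (B := fun k' Φ => Surjective (Lv.bc rfl Φ).hom) ⟨k₂, a₂, fun ψ => h₂ ψ _ _ _ _ (IsPullback.of_hasPullback _ _) (Lv.isPullback_bc rfl _)⟩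
          ⟨k₃, a₃, fun ψ => h₃ ψ _ _ _ _ (IsPullback.of_hasPullback _ _) (Lv.isPullback_bc rfl _)⟩))
      (exists_and (A := fun k' Φ => LocallyQuasiFinite (pullback.lift (Lv.bc rfl Φ).hom (Lu.bc huv Φ).hom
          (by rw [(Lv.bc rfl Φ).w, (Lu.bc huv Φ).w])))
        (B := fun k' Φ => ∃ e' : (M.bc Φ).U0 ⟶ CohB1.ProjSpaceOver n (D.obj k'), IsImmersion e' ∧
          e' ≫ CohB1.ProjSpaceOver.toBase n (D.obj k') = (M.bc Φ).pU0)
        ⟨k₄, a₄, g₄⟩ ⟨k₅, a₅, g₅⟩)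
    exact ⟨k, 𝟙 k ≫ ψ, (hψ (𝟙 k)).1.1, (hψ (𝟙 k)).1.2.1, (hψ (𝟙 k)).1.2.2, (hψ (𝟙 k)).2⟩
  obtain ⟨h1, h2, h3, h4, e', he', hee'⟩ := hall
  let Mk := M.bc Φ
  have := Mk.lfpU; have := Mk.qcU
  have := ProjProper.Basic.isProper_toBase n (D.obj k)
  have : IsLocallyNoetherian (CohB1.ProjSpaceOver n (D.obj k)) :=
    LocallyOfFiniteType.isLocallyNoetherian (CohB1.ProjSpaceOver.toBase n (D.obj k))
  exact ⟨{
    T := D.obj k
    g := c.π.app k
    U0 := Mk.U0
    R0 := Mk.R0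
    pU0 := Mk.pU0
    u0 := (Lu.bc huv Φ).hom
    v0 := (Lv.bc rfl Φ).hom
    πU := Mk.qU
    πR := Mk.qR
    aff := inferInstance
    noeth := inferInstance
    lft := inferInstance
    qc := inferInstance
    qproj := ProjMor.isQuasiProjective_of_immersion Mk.pU0 n e' hee'
    comm := by rw [(Lu.bc huv Φ).w, (Lv.bc rfl Φ).w]
    proper := h1
    flat := h2
    surj := h3
    lqf := h4
    sqU := Mk.sU
    sqV := (Lv.bc rfl Φ).isPullback rfl
    compat := (Lu.bc huv Φ).fac }⟩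

end Groth.Agent.GrpdLib.Cover4090
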