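import Groth.Agent.GrpdLib.Cover4090.Stage
import Groth.Agent.GrpdLib.Cover4090.Model
import Groth.Agent.GrpdLib.Cover4088.Main
import Groth.Agent.GrpdLib.EffQuot

/-!
# Quasi-sections of a proper flat groupoid over a general base
-/

set_option autoImplicit false
set_option backward.isDefEq.respectTransparency false
set_option backward.isDefEq.respectTransparency.types false
set_option maxHeartbeats 800000

universe u

open CategoryTheory Limits AlgebraicGeometry TopologicalSpace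

noncomputable section

namespace Groth.Agent.GrpdLib.Cover4090

/-- Finite, flat, finitely presented and surjective. -/
def goodMor : MorphismProperty Scheme.{u} :=
  @IsFinite ⊓ @Flat ⊓ @LocallyOfFinitePresentation ⊓ @Surjective

instance : (goodMor.{u}).IsStableUnderBaseChange := by
  delta goodMor; infer_instance

lemma descendsAlong_goodMor :
    (goodMor.{u}).DescendsAlong (@Surjective ⊓ @Flat ⊓ @LocallyOfFinitePresentation) := by
  have := FpqcDesc.descendsAlong_isFinite.{u}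
  delta goodMor; infer_instance

/-- The image of a family of saturated arrows: finiteness spreads over the saturation. -/
lemma goodMor_saturate {S : Scheme.{u}} (G : Grpd.GroupoidScheme S) [Flat G.s]
    [LocallyOfFinitePresentation G.s] {F : Scheme.{u}} (ι : F ⟶ G.U) {V : Scheme.{u}} (k : V ⟶ G.U)
    [IsOpenImmersion k] (hk : goodMor (pullback.snd (Slice16047.hOf G ι) k)) :
    ∃ W : G.U.Opens, G.t ⁻¹ᵁ W = G.s ⁻¹ᵁ W ∧ Set.range k ⊆ W ∧
      goodMor (Slice16047.hOf G ι ∣_ W) := by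
  set h := Slice16047.hOf G ι with hh
  have : IsIso G.i := isIso_i G
  have : Flat G.t := t_property G (P := @Flat) inferInstance
  have : LocallyOfFinitePresentation G.t := t_property G (P := @LocallyOfFinitePresentation) inferInstance
  let RV := pullback G.s k
  let a : RV ⟶ G.U := pullback.fst G.s k ≫ G.t
  have hrange : ∀ x, x ∈ Set.range a ↔ ∃ v, Rel G x (k v) := by
    intro x
    constructor
    · rintro ⟨r, rfl⟩
      refine ⟨pullback.snd G.s k r, pullback.fst G.s k r, (Scheme.Hom.comp_apply _ _ _).symm, ?_⟩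
      rw [← Scheme.Hom.comp_apply, pullback.condition, Scheme.Hom.comp_apply]
    · rintro ⟨v, r, rfl, hr⟩
      obtain ⟨w, hw, -⟩ := Scheme.Pullback.exists_preimage_pullback (f := G.s) (g := k) r v hr
      exact ⟨w, by rw [Scheme.Hom.comp_apply, hw]⟩
  let W : G.U.Opens := ⟨_, a.isOpenMap.isOpen_range⟩
  have hWrel : ∀ x y, Rel G x y → x ∈ W → y ∈ W := by
    intro x y hxy hx
    obtain ⟨v, hv⟩ := (hrange x).mp hx
    exact (hrange y).mpr ⟨v, (rel_equivalence G).trans ((rel_equivalence G).symm hxy) hv⟩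
  refine ⟨W, ?_, ?_, ?_⟩
  · ext r
    exact ⟨hWrel _ _ ⟨r, rfl, rfl⟩, hWrel _ _ ((rel_equivalence G).symm ⟨r, rfl, rfl⟩)⟩
  · rintro _ ⟨v, rfl⟩
    exact (hrange _).mpr ⟨v, (rel_equivalence G).refl _⟩
  let q := pullback.snd h G.t
  let f := pullback.fst G.s k
  have h1 : IsPullback (pullback.fst q f ≫ Slice16047.mul G ι) (pullback.snd q f) h (f ≫ G.s) :=
    (IsPullback.of_hasPullback q f).paste_horiz (Slice16047.isPullback_mul G ι)
  have h2 : goodMor (pullback.snd q f) :=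
    LimLib.property_of_factor (IsPullback.of_hasPullback h k) h1 (pullback.snd G.s k)
      pullback.condition.symm hk
  have h3 : IsPullback (pullback.fst q f ≫ pullback.fst h G.t) (pullback.snd q f) h a :=
    (IsPullback.of_hasPullback q f).paste_horiz (IsPullback.of_hasPullback h G.t)
  let a' : RV ⟶ (W : Scheme.{u}) := IsOpenImmersion.lift W.ι a (by
    rw [Scheme.Opens.range_ι]; exact subset_rfl)
  have ha' : a' ≫ W.ι = a := IsOpenImmersion.lift_fac _ _ _
  have sW := (isPullback_morphismRestrict h W).flip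
  obtain ⟨b, hb⟩ : ∃ b, IsPullback b (pullback.snd q f) (h ∣_ W) a' := by
    refine ⟨sW.lift (pullback.fst q f ≫ pullback.fst h G.t) (pullback.snd q f ≫ a')
      (by rw [Category.assoc _ a', ha', h3.w]), IsPullback.of_right ?_ (sW.lift_snd _ _ _) sW⟩
    rw [sW.lift_fst, ha']
    exact h3
  have : LocallyOfFinitePresentation (a' ≫ W.ι) := by rw [ha']; infer_instance
  have : Flat (a' ≫ W.ι) := by rw [ha']; infer_instance
  have : LocallyOfFinitePresentation a' :=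
    MorphismProperty.of_postcomp (W := @LocallyOfFinitePresentation) (W' := @LocallyOfFiniteType) a' W.ι
      (inferInstanceAs (LocallyOfFiniteType W.ι)) inferInstance
  have hfl : Flat a' := MorphismProperty.of_isPullback (P := @Flat)
    (Slice16047.isPullback_factor ha') inferInstance
  have hsurj : Surjective a' := ⟨fun w => by
    obtain ⟨r, hr⟩ := w.2
    refine ⟨r, W.ι.isOpenEmbedding.injective ?_⟩
    rw [← Scheme.Hom.comp_apply, ha', hr]; rfl⟩
  have := descendsAlong_goodMor.{u}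
  exact MorphismProperty.of_isPullback_of_descendsAlong (P := goodMor)
    (Q := @Surjective ⊓ @Flat ⊓ @LocallyOfFinitePresentation) hb.flip
    ⟨⟨hsurj, hfl⟩, inferInstance⟩ h2

variable {S : Scheme.{u}} (G : Grpd.GroupoidScheme S)

/-- Every point has a saturated neighbourhood with a quasi-section. -/
theorem exists_quasiSection [LocallyOfFinitePresentation G.pU] [QuasiCompact G.pU] [QuasiSeparated G.pU]
    (n : ℕ) (e : G.U ⟶ CohB1.ProjSpaceOver n S) [IsImmersion e] [QuasiCompact e]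
    (he : e ≫ CohB1.ProjSpaceOver.toBase n S = G.pU)
    [IsProper G.s] [Flat G.s] [LocallyOfFinitePresentation G.s] [LocallyQuasiFinite G.j] (z : G.U) :
    ∃ (W : G.U.Opens) (hW : G.t ⁻¹ᵁ W = G.s ⁻¹ᵁ W), z ∈ W ∧
      ∃ (U' : Scheme.{u}) (u : U' ⟶ (W : Scheme.{u})), IsImmersion u ∧
        Mor2.IsFinLocFree (pullback.fst (G.t.resLE W (G.s ⁻¹ᵁ W) hW.ge) u ≫ (G.s ∣_ W)) ∧
        Surjective (pullback.fst (G.t.resLE W (G.s ⁻¹ᵁ W) hW.ge) u ≫ (G.s ∣_ W)) ∧
        ∀ E : Set U', (∀ x ∈ E, ∀ y ∈ E, ∃ r : G.R,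
            G.t.base r = (u ≫ W.ι).base x ∧ G.s.base r = (u ≫ W.ι).base y) →
          ∃ V : U'.Opens, IsAffineOpen V ∧ E ⊆ (V : Set U') := by
  obtain ⟨S0, hS0, hzS0, -⟩ := exists_isAffineOpen_mem_and_subset (x := G.pU z) (U := ⊤) trivial
  let U0 := G.pU ⁻¹ᵁ S0
  have heq : G.s ⁻¹ᵁ U0 = G.t ⁻¹ᵁ U0 := by
    simp only [U0, ← Scheme.Hom.comp_preimage, G.s_over, G.t_over]
  let pX : U0.toScheme ⟶ S0.toScheme := G.pU ∣_ S0
  let v0 : (G.s ⁻¹ᵁ U0).toScheme ⟶ U0.toScheme := G.s ∣_ U0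
  let u0 : (G.s ⁻¹ᵁ U0).toScheme ⟶ U0.toScheme := (G.R.isoOfEq heq).hom ≫ (G.t ∣_ U0)
  have hu0 : u0 ≫ U0.ι = (G.s ⁻¹ᵁ U0).ι ≫ G.t := by simp [u0]
  have hv0 : v0 ≫ U0.ι = (G.s ⁻¹ᵁ U0).ι ≫ G.s := morphismRestrict_ι _ _
  have hpXι : pX ≫ S0.ι = U0.ι ≫ G.pU := morphismRestrict_ι _ _
  have huv : u0 ≫ pX = v0 ≫ pX := by
    rw [← cancel_mono S0.ι, Category.assoc u0, Category.assoc v0, hpXι, ← Category.assoc u0,
      ← Category.assoc v0, hu0, hv0, Category.assoc, Category.assoc, G.t_over, G.s_over]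
  have : IsAffine S0.toScheme := hS0
  have : LocallyOfFinitePresentation pX := IsZariskiLocalAtTarget.restrict ‹LocallyOfFinitePresentation G.pU› S0
  have : QuasiCompact pX := IsZariskiLocalAtTarget.restrict ‹QuasiCompact G.pU› S0
  have : QuasiSeparated pX := IsZariskiLocalAtTarget.restrict ‹QuasiSeparated G.pU› S0
  have : IsProper v0 := IsZariskiLocalAtTarget.restrict ‹IsProper G.s› U0
  have : Flat v0 := IsZariskiLocalAtTarget.restrict ‹Flat G.s› U0
  have : LocallyOfFinitePresentation v0 :=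
    IsZariskiLocalAtTarget.restrict ‹LocallyOfFinitePresentation G.s› U0
  have : Surjective G.s := ⟨fun x => ⟨G.e x, s_e_apply G x⟩⟩
  have : Surjective v0 := IsZariskiLocalAtTarget.restrict ‹Surjective G.s› U0
  obtain ⟨qP, sP⟩ := exists_isPullback_projSpace n S0.ι
  let eU : U0.toScheme ⟶ CohB1.ProjSpaceOver n S0.toScheme :=
    sP.lift (U0.ι ≫ e) pX (by rw [Category.assoc, he, hpXι])
  have : IsImmersion eU := by
    refine MorphismProperty.of_isPullback (P := @IsImmersion) (?_ : IsPullback U0.ι eU e qP) ‹_›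
    refine IsPullback.of_bot ?_ (sP.lift_fst _ _ _).symm sP
    rw [sP.lift_snd, he]
    exact (isPullback_morphismRestrict G.pU S0).flip
  have : LocallyQuasiFinite (pullback.lift v0 u0 huv.symm) := by
    have hj : LocallyQuasiFinite ((G.s ⁻¹ᵁ U0).ι ≫ G.j ≫ (pullbackSymmetry G.pU G.pU).hom) :=
      inferInstance
    have e1 : pullback.lift v0 u0 huv.symm ≫
        pullback.map pX pX G.pU G.pU U0.ι U0.ι S0.ι hpXι hpXι =
          (G.s ⁻¹ᵁ U0).ι ≫ G.j ≫ (pullbackSymmetry G.pU G.pU).hom := by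
      apply pullback.hom_ext <;> simp [hu0, hv0]
    rw [← e1] at hj
    exact LocallyQuasiFinite.of_comp _ (pullback.map pX pX G.pU G.pU U0.ι U0.ι S0.ι hpXι hpXι)
  obtain ⟨M⟩ := exists_pairModel pX n eU (sP.lift_snd _ _ _) u0 v0 huv
  have := M.aff; have := M.noeth; have := M.lft; have := M.qc
  have := M.proper; have := M.flat; have := M.lqf; have := M.surj
  let z1 : U0.toScheme := ⟨z, hzS0⟩
  obtain ⟨η, hη, hηc⟩ := Cover4088.exists_closedInFibre M.pU0 (M.πU z1)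
  obtain ⟨F0, j0, hj0, V0, hηV, hgood⟩ :=
    exists_stage_section M.pU0 M.qproj M.u0 M.v0 M.comm η hηc (M.v0.surjective η)
  let F := pullback j0 M.πU
  let jF : F ⟶ U0.toScheme := pullback.snd j0 M.πU
  have : IsClosedImmersion jF := MorphismProperty.pullback_snd _ _ hj0
  let ι : F ⟶ G.U := jF ≫ U0.ι
  let sn : pullback ι G.t ⟶ (G.s ⁻¹ᵁ U0).toScheme :=
    IsOpenImmersion.lift (G.s ⁻¹ᵁ U0).ι (pullback.snd ι G.t) (by
      rw [Scheme.Opens.range_ι]
      rintro _ ⟨p, rfl⟩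
      rw [SetLike.mem_coe, heq]
      show G.t (pullback.snd ι G.t p) ∈ U0
      rw [← Scheme.Hom.comp_apply, ← pullback.condition, Scheme.Hom.comp_apply, Scheme.Hom.comp_apply]
      exact (jF (pullback.fst ι G.t p)).2)
  have hsn : sn ≫ (G.s ⁻¹ᵁ U0).ι = pullback.snd ι G.t := IsOpenImmersion.lift_fac _ _ _
  have sq : IsPullback (pullback.fst ι G.t) sn jF u0 := by
    refine Slice16047.isPullback_of_comp_mono U0.ι ?_
    rw [hu0]
    refine Slice16047.isPullback_cancel_leg (G.s ⁻¹ᵁ U0).ι ?_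
    rw [hsn]
    exact IsPullback.of_hasPullback ι G.t
  have hh : (sn ≫ v0) ≫ U0.ι = Slice16047.hOf G ι := by rw [Category.assoc, hv0, reassoc_of% hsn]
  let h0 := pullback.snd j0 M.u0 ≫ M.v0
  have s1 := sq.paste_horiz (IsPullback.of_hasPullback j0 M.πU)
  rw [← M.compat] at s1
  obtain ⟨m, hm⟩ : ∃ m, IsPullback m sn (pullback.snd j0 M.u0) M.πR := by
    have s0 := IsPullback.of_hasPullback j0 M.u0
    refine ⟨s0.lift (pullback.fst ι G.t ≫ pullback.fst j0 M.πU) (sn ≫ M.πR)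
      (by rw [Category.assoc _ M.πR]; exact s1.w), IsPullback.of_right ?_ (s0.lift_snd _ _ _) s0⟩
    rw [s0.lift_fst]
    exact s1
  have hm' : IsPullback m (sn ≫ v0) h0 M.πU := hm.paste_vert M.sqV
  let V1 : U0.toScheme.Opens := M.πU ⁻¹ᵁ V0
  have hV0 : goodMor (h0 ∣_ V0) := ⟨⟨⟨hgood.1, hgood.2.1⟩, hgood.2.2.1⟩, hgood.2.2.2⟩
  have hV1 : goodMor (pullback.snd (sn ≫ v0) V1.ι) :=
    LimLib.property_of_factor (isPullback_morphismRestrict h0 V0).flip
      ((IsPullback.of_hasPullback (sn ≫ v0) V1.ι).paste_horiz hm') (M.πU ∣_ V0) (morphismRestrict_ι _ _) hV0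
  have sid : IsPullback (𝟙 _) (sn ≫ v0) (Slice16047.hOf G ι) U0.ι :=
    IsPullback.of_horiz_isIso_mono ⟨by rw [Category.id_comp, hh]⟩
  have hk : goodMor (pullback.snd (Slice16047.hOf G ι) (V1.ι ≫ U0.ι)) :=
    LimLib.property_of_factor ((IsPullback.of_hasPullback (sn ≫ v0) V1.ι).paste_horiz sid)
      (IsPullback.of_hasPullback _ _) (𝟙 _) (Category.id_comp _) hV1
  obtain ⟨W, hW, hVW, hWgood⟩ := goodMor_saturate G ι (V1.ι ≫ U0.ι) hk
  have hzW : z ∈ W := by
    refine hVW ⟨⟨z1, ?_⟩, ?_⟩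
    · exact hη.mem_open V0.2 hηV
    · rw [Scheme.Hom.comp_apply]; rfl
  obtain ⟨μ, hμ⟩ := QSec6046.isPullback_restrict_section G ι W hW
  let ew := hμ.isoIsPullback _ _ (isPullback_morphismRestrict (Slice16047.hOf G ι) W).flip
  have hφ : pullback.fst (G.t.resLE W (G.s ⁻¹ᵁ W) hW.ge) (ι ∣_ W) ≫ (G.s ∣_ W) =
      ew.hom ≫ (Slice16047.hOf G ι ∣_ W) := (IsPullback.isoIsPullback_hom_snd _ _ _ _).symm
  obtain ⟨⟨⟨hWfin, hWflat⟩, hWlfp⟩, hWsurj⟩ := hWgood
  refine ⟨W, hW, hzW, (ι ⁻¹ᵁ W).toScheme, ι ∣_ W, inferInstance, ?_, ?_, ?_⟩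
  · rw [hφ]
    exact ⟨inferInstance, inferInstance, inferInstance⟩
  · rw [hφ]; infer_instance
  intro E hE
  rcases E.eq_empty_or_nonempty with rfl | ⟨x, hx⟩
  · exact ⟨⊥, isAffineOpen_bot _, Set.empty_subset _⟩
  let w : W.toScheme := (ι ∣_ W) x
  have hfibre : (Slice16047.hOf G ι ⁻¹' {W.ι w}).Finite := by
    refine ((Scheme.Hom.finite_preimage_singleton (f := Slice16047.hOf G ι ∣_ W) w).image
      (Slice16047.hOf G ι ⁻¹ᵁ W).ι).subset fun p hp => ?_
    have hpW : p ∈ Slice16047.hOf G ι ⁻¹ᵁ W := by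
      show Slice16047.hOf G ι p ∈ W
      rw [hp]; exact w.2
    refine ⟨⟨p, hpW⟩, W.ι.isOpenEmbedding.injective ?_, rfl⟩
    rw [← Scheme.Hom.comp_apply, morphismRestrict_ι, Scheme.Hom.comp_apply]
    exact hp
  have hEfin : ((ι ⁻¹ᵁ W).ι '' E).Finite := by
    refine (hfibre.image (pullback.fst ι G.t)).subset ?_
    rintro _ ⟨y, hy, rfl⟩
    obtain ⟨r, ht, hs⟩ := hE y hy x hx
    have ht' : G.t r = ι ((ι ⁻¹ᵁ W).ι y) := by
      refine ht.trans ?_
      rw [← Scheme.Hom.comp_apply, ← morphismRestrict_ι]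
    obtain ⟨p, hp1, hp2⟩ := Scheme.Pullback.exists_preimage_pullback (f := ι) (g := G.t) _ r ht'.symm
    refine ⟨p, ?_, hp1⟩
    show Slice16047.hOf G ι p = W.ι w
    rw [Scheme.Hom.comp_apply, hp2]
    exact hs.trans (Scheme.Hom.comp_apply _ _ x)
  -- an ample sheaf on `F`
  obtain ⟨-, -, L, hL⟩ := ProjMor.isQuasiProjective_of_immersion G.pU n e he
  have hLF : CohB1.IsAmple ((Scheme.Modules.pullback jF).obj ((Scheme.Modules.pullback U0.ι).obj L)) :=
    Wt.AmpleThick.isAmple_pullback jF (Props.AmpleRel.isAmple_pullback_preimage hL ⟨S0, hS0⟩)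
  obtain ⟨O, hOc, hEO, hOW⟩ := LimLib.exists_isCompact_opens_between hEfin.isCompact (ι ⁻¹ᵁ W) (by
    rintro _ ⟨y, -, rfl⟩; exact y.2)
  obtain ⟨A, hA, hEA⟩ := GalCohAux.AmpleFinite.exists_affine_of_finite
    (Props.AmpleRel.isAmple_pullback_opens hLF hOc)
    (hEfin.preimage (f := O.ι) O.ι.isOpenEmbedding.injective.injOn)
  refine ⟨(ι ⁻¹ᵁ W).ι ⁻¹ᵁ (O.ι ''ᵁ A), ?_, fun y hy => ?_⟩
  · refine ((ι ⁻¹ᵁ W).ι.isAffineOpen_iff_of_isOpenImmersion).mp ?_
    convert hA.image_of_isOpenImmersion O.ι using 1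
    ext w
    exact ⟨fun ⟨a, ha, e⟩ => e ▸ ha, fun hw => by
      obtain ⟨a, -, rfl⟩ := id hw
      exact ⟨⟨_, hOW a.2⟩, hw, rfl⟩⟩
  · exact ⟨⟨_, hEO ⟨y, hy, rfl⟩⟩, hEA ⟨y, hy, rfl⟩, rfl⟩

/-- Good opens cover. -/
theorem exists_goodOpen [LocallyOfFinitePresentation G.pU] [QuasiCompact G.pU] [QuasiSeparated G.pU]
    (n : ℕ) (e : G.U ⟶ CohB1.ProjSpaceOver n S) [IsImmersion e] [QuasiCompact e]
    (he : e ≫ CohB1.ProjSpaceOver.toBase n S = G.pU)
    [IsProper G.s] [Flat G.s] [LocallyOfFinitePresentation G.s] [LocallyQuasiFinite G.j] (x : G.U) :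
    ∃ j : Cover4088.GoodOpen G, x ∈ j.1 := by
  obtain ⟨W, hW, hzW, U', u, hu, h1, h1', h2⟩ := exists_quasiSection G n e he x
  exact ⟨⟨W, hW.symm, Cover4088.exists_isGood G W hW.symm u h1 h1' h2⟩, hzW⟩

end Groth.Agent.GrpdLib.Cover4090
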