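import Groth.Agent.GrpdLib.QSec6046.Main
import Groth.Agent.ProjMor.QProj
import Groth.Agent.S0386

/-!
# Cutting a pair of morphisms with proper flat second member, over a Noetherian affine base
-/

set_option autoImplicit false
set_option backward.isDefEq.respectTransparency false
set_option backward.isDefEq.respectTransparency.types false

universe u

open CategoryTheory Limits AlgebraicGeometry TopologicalSpace

noncomputable section

namespace Groth.Agent.GrpdLib.Cover4090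

/-- The arrows of the pair starting in `F` are finite, flat and surjective over `V`. -/
def GoodOver {F Y : Scheme.{u}} (h : F ⟶ Y) (V : Y.Opens) : Prop :=
  IsFinite (h ∣_ V) ∧ Flat (h ∣_ V) ∧ LocallyOfFinitePresentation (h ∣_ V) ∧ Surjective (h ∣_ V)

/-- Near every point closed in its fibre there is a closed subscheme cutting the pair finitely. -/
theorem exists_stage_section {T U R : Scheme.{u}} [IsAffine T] [IsNoetherian T] (pU : U ⟶ T)
    [LocallyOfFiniteType pU] [QuasiCompact pU] (hU : RelProj.IsQuasiProjective pU)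
    (u v : R ⟶ U) (huv : u ≫ pU = v ≫ pU) [IsProper v] [Flat v]
    [LocallyQuasiFinite (pullback.lift v u huv.symm)] (z : U) (hz : Cut5230.IsClosedInFibre pU z)
    (hzr : z ∈ Set.range v) :
    ∃ (F : Scheme.{u}) (j : F ⟶ U) (_ : IsClosedImmersion j) (V : U.Opens), z ∈ V ∧
      GoodOver (pullback.snd j u ≫ v) V := by
  obtain ⟨-, -, L, hL⟩ := hU
  have : IsSeparated pU := S9691.result pU L hL
  have : IsLocallyNoetherian U := LocallyOfFiniteType.isLocallyNoetherian pU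
  have : CompactSpace U := QuasiCompact.compactSpace_of_compactSpace pU
  have : IsNoetherian U := {}
  have : IsLocallyNoetherian R := LocallyOfFiniteType.isLocallyNoetherian v
  have : CompactSpace R := QuasiCompact.compactSpace_of_compactSpace v
  have : IsNoetherian R := {}
  have hV : IsAffineOpen (⊤ : T.Opens) := isAffineOpen_top T
  have hamp : CohB1.IsAmple ((Scheme.Modules.pullback (pU ⁻¹ᵁ ⊤).ι).obj L) :=
    Props.AmpleRel.isAmple_pullback_preimage hL ⟨⊤, hV⟩
  let e : (pU ⁻¹ᵁ ⊤).toScheme ≅ U := U.topIso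
  have hL' : CohB1.IsAmple L := by
    have : IsClosedImmersion e.inv := inferInstance
    refine AmpleLib.isAmple_of_iso ?_ (Wt.AmpleThick.isAmple_pullback e.inv hamp)
    exact (Scheme.Modules.pullbackComp e.inv (pU ⁻¹ᵁ ⊤).ι).app L ≪≫
      (Scheme.Modules.pullbackCongr (show e.inv ≫ (pU ⁻¹ᵁ ⊤).ι = 𝟙 U from e.inv_hom_id)).app L ≪≫
      (Scheme.Modules.pullbackId U).app L
  obtain ⟨F, j, hj, hfin, hne, hfl⟩ := Cut5230.exists_cutting pU (v ≫ pU) pU u v huv rfl hL' z hzr hz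
    (fun y _ => Flat.stalkMap v y)
  have hsnd : IsClosedImmersion (pullback.snd j u) :=
    MorphismProperty.pullback_snd _ _ hj
  set h := pullback.snd j u ≫ v with hh
  have : QuasiCompact (pullback.lift v u huv.symm) := by
    have : QuasiCompact (pullback.lift v u huv.symm ≫ pullback.fst pU pU) := by
      rw [pullback.lift_fst]; infer_instance
    exact QuasiCompact.of_comp _ (pullback.fst pU pU)
  have hpairs : ∀ a : U, {r : R | v r = z ∧ u r = a}.Finite := fun a => by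
    refine ((QSec6046.finite_over_pair pU pU z a hz).preimage'
      fun w _ => (pullback.lift v u huv.symm).finite_preimage_singleton w).subset ?_
    rintro r ⟨hv, hu⟩
    exact ⟨by rw [← Scheme.Hom.comp_apply, pullback.lift_fst, hv],
      by rw [← Scheme.Hom.comp_apply, pullback.lift_snd, hu]⟩
  have hfinz : (h ⁻¹' {z}).Finite := by
    refine (Set.Finite.preimage (pullback.snd j u).isEmbedding.injective.injOn
      (hfin.biUnion (t := fun a => {r : R | v r = z ∧ u r = a}) fun a _ => hpairs a)).subset ?_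
    intro p hp
    have hp' : v (pullback.snd j u p) = z := (Scheme.Hom.comp_apply _ _ p).symm.trans hp
    refine Set.mem_biUnion ⟨pullback.snd j u p, ⟨⟨pullback.fst j u p, ?_⟩, hp'⟩, rfl⟩ ⟨hp', rfl⟩
    rw [← Scheme.Hom.comp_apply, pullback.condition, Scheme.Hom.comp_apply]
  obtain ⟨y, ⟨f, hf⟩, hy⟩ := hne
  obtain ⟨p₀, -, hp₀⟩ := Scheme.Pullback.exists_preimage_pullback (f := j) (g := u) f y hf
  have hhz : h p₀ = z := by rw [Scheme.Hom.comp_apply, hp₀]; exact hy
  obtain ⟨V₁, hzV₁, hfinV₁⟩ :=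
    exists_isFinite_morphismRestrict_of_finite_preimage_singleton h z hfinz
  let Fl : (pullback j u).Opens := ⟨_, S0386.result h⟩
  let V₂ : U.Opens := ⟨_, (h.isClosedMap _ Fl.2.isClosed_compl).isOpen_compl⟩
  have hzV₂ : z ∈ V₂ := by
    rintro ⟨p, hp, hpz⟩
    exact hp (hfl p ((Scheme.Hom.comp_apply _ _ p).symm.trans hpz))
  have hflat₁₂ : ∀ p, h p ∈ V₁ ⊓ V₂ → (h.stalkMap p).hom.Flat := fun p hp => by
    by_contra hn
    exact hp.2 ⟨p, hn, rfl⟩
  have : Flat ((h ⁻¹ᵁ (V₁ ⊓ V₂)).ι ≫ h) := Slice16047.flat_of_stalks _ fun p =>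
    Cut5230.flat_stalkMap_comp _ h p (hflat₁₂ _ p.2)
  have hopen : IsOpen (Set.range ((h ⁻¹ᵁ (V₁ ⊓ V₂)).ι ≫ h)) :=
    ((h ⁻¹ᵁ (V₁ ⊓ V₂)).ι ≫ h).isOpenMap.isOpen_range
  let V : U.Opens := ⟨_, hopen⟩
  have hVle : V ≤ V₁ ⊓ V₂ := by
    rintro _ ⟨p, rfl⟩
    exact p.2
  refine ⟨F, j, hj, V, ⟨⟨p₀, ?_⟩, ?_⟩, ?_, ?_, inferInstance, ⟨fun w => ?_⟩⟩
  · show h p₀ ∈ V₁ ⊓ V₂
    rw [hhz]; exact ⟨hzV₁, hzV₂⟩
  · rw [Scheme.Hom.comp_apply]; exact hhz
  · have h1 : IsFinite (h ∣_ V₁) := hfinV₁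
    have hV' : V₁.ι ''ᵁ (V₁.ι ⁻¹ᵁ V) = V := by
      ext x
      exact ⟨fun ⟨a, ha, e⟩ => e ▸ ha, fun hx => ⟨⟨x, (hVle hx).1⟩, hx, rfl⟩⟩
    rw [← hV']
    exact (MorphismProperty.arrow_mk_iso_iff @IsFinite (morphismRestrictRestrict h V₁ _)).mp
      (IsZariskiLocalAtTarget.restrict h1 _)
  · have : Flat ((h ⁻¹ᵁ V).ι ≫ h) := Slice16047.flat_of_stalks _ fun p =>
      Cut5230.flat_stalkMap_comp _ h p (hflat₁₂ _ (hVle p.2))
    exact MorphismProperty.of_isPullback (P := @Flat)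
      (Slice16047.isPullback_factor (morphismRestrict_ι h V)) inferInstance
  · obtain ⟨p, hp⟩ := w.2
    refine ⟨⟨(h ⁻¹ᵁ (V₁ ⊓ V₂)).ι p, ?_⟩, V.ι.isOpenEmbedding.injective ?_⟩
    · show h ((h ⁻¹ᵁ (V₁ ⊓ V₂)).ι p) ∈ V
      rw [← Scheme.Hom.comp_apply, hp]; exact w.2
    · rw [← Scheme.Hom.comp_apply, morphismRestrict_ι, Scheme.Hom.comp_apply]
      exact (Scheme.Hom.comp_apply _ h p).symm.trans hp

end Groth.Agent.GrpdLib.Cover4090
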